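import Groth.Agent.Models.TorVan
import Groth.Agent.Models.TorPoly
import Groth.Agent.CycA.TorShift
import Mathlib.LinearAlgebra.TensorProduct.Prod

/-!
# Two-periodic resolutions of a `2 × 2` determinantal hypersurface and Tor

`A` a commutative ring, `x w = y z` in `A`; `phi`, `psi` the two matrices `(x y; z w)` and its adjugate.
-/

universe u

open CategoryTheory TensorProduct Function

namespace Groth.Agent.K91.Dhm

open Groth.Agent.Models.TorVan Groth.Agent.CycA.TorShift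

variable {A : Type u} [CommRing A]

/-- `Tor_1` of the cokernel of `d₁` as the homology of `F₂ ⊗ N → F₁ ⊗ N → F₀ ⊗ N`. -/
theorem tor_one_iff_exact {F₂ F₁ F₀ Q : Type u} [AddCommGroup F₂] [Module A F₂] [AddCommGroup F₁]
    [Module A F₁] [AddCommGroup F₀] [Module A F₀] [AddCommGroup Q] [Module A Q] [Module.Flat A F₀]
    (d₂ : F₂ →ₗ[A] F₁) (d₁ : F₁ →ₗ[A] F₀) (q : F₀ →ₗ[A] Q) (h21 : Exact d₂ d₁) (h1q : Exact d₁ q)
    (hq : Surjective q) (N : Type u) [AddCommGroup N] [Module A N] :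
    Subsingleton (DRing.Tor A 1 Q N) ↔ Exact (d₂.rTensor N) (d₁.rTensor N) := by
  have hi : Injective (LinearMap.range d₁).subtype := Subtype.val_injective
  have hiq : Exact (LinearMap.range d₁).subtype q := by
    intro y
    rw [h1q y]
    constructor
    · rintro ⟨t, rfl⟩; exact ⟨⟨_, t, rfl⟩, rfl⟩
    · rintro ⟨⟨_, t, rfl⟩, rfl⟩; exact ⟨t, rfl⟩
  have hr : Surjective d₁.rangeRestrict := d₁.surjective_rangeRestrict
  have hdr : Exact d₂ d₁.rangeRestrict := by
    intro y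
    rw [← h21 y, ← Subtype.val_inj]
    rfl
  rw [tor_one_iff _ q hi hiq hq N]
  have e1 : Exact (d₂.rTensor N) (d₁.rangeRestrict.rTensor N) := rTensor_exact N hdr hr
  have e2 : d₁.rTensor N = (LinearMap.range d₁).subtype.rTensor N ∘ₗ d₁.rangeRestrict.rTensor N := by
    rw [← LinearMap.rTensor_comp]; rfl
  constructor
  · intro hinj y
    rw [e2, LinearMap.comp_apply, map_eq_zero_iff _ hinj]
    exact e1 y
  · intro hex
    rw [injective_iff_map_eq_zero]
    intro t ht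
    obtain ⟨s, rfl⟩ := LinearMap.rTensor_surjective N hr t
    have h0 : d₁.rTensor N s = 0 := by rw [e2]; exact ht
    obtain ⟨r, rfl⟩ := (hex s).1 h0
    exact e1.apply_apply_eq_zero r

section Mat

variable (x y z w : A)

/-- `(a, b) ↦ (x a + y b, z a + w b)`. -/
abbrev phi (M : Type u) [AddCommGroup M] [Module A M] : M × M →ₗ[A] M × M :=
  (x • LinearMap.fst A M M + y • LinearMap.snd A M M).prod
    (z • LinearMap.fst A M M + w • LinearMap.snd A M M)

/-- `(a, b) ↦ (w a - y b, x b - z a)`. -/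
abbrev psi (M : Type u) [AddCommGroup M] [Module A M] : M × M →ₗ[A] M × M :=
  (w • LinearMap.fst A M M - y • LinearMap.snd A M M).prod
    (x • LinearMap.snd A M M - z • LinearMap.fst A M M)

/-- `(a, b) ↦ x a + y b`. -/
abbrev row (M : Type u) [AddCommGroup M] [Module A M] : M × M →ₗ[A] M :=
  x • LinearMap.fst A M M + y • LinearMap.snd A M M

variable (M : Type u) [AddCommGroup M] [Module A M]

/-- `(A × A) ⊗ M ≃ M × M`. -/
noncomputable def e2 : (A × A) ⊗[A] M ≃ₗ[A] M × M :=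
  TensorProduct.prodLeft A A A A M ≪≫ₗ (TensorProduct.lid A M).prodCongr (TensorProduct.lid A M)

theorem e2_tmul (a b : A) (m : M) : e2 M ((a, b) ⊗ₜ[A] m) = (a • m, b • m) := by
  simp [e2]

theorem e2_phi (t : (A × A) ⊗[A] M) : e2 M ((phi x y z w A).rTensor M t) = phi x y z w M (e2 M t) := by
  induction t with
  | zero => simp only [map_zero]
  | add s t hs ht => simp only [map_add, hs, ht]
  | tmul p m =>
    obtain ⟨a, b⟩ := p
    rw [LinearMap.rTensor_tmul, e2_tmul, e2_tmul]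
    change ((x * a + y * b) • m, (z * a + w * b) • m) = (x • a • m + y • b • m, z • a • m + w • b • m)
    simp only [add_smul, mul_smul]

theorem e2_psi (t : (A × A) ⊗[A] M) : e2 M ((psi x y z w A).rTensor M t) = psi x y z w M (e2 M t) := by
  induction t with
  | zero => simp only [map_zero]
  | add s t hs ht => simp only [map_add, hs, ht]
  | tmul p m =>
    obtain ⟨a, b⟩ := p
    rw [LinearMap.rTensor_tmul, e2_tmul, e2_tmul]
    change ((w * a - y * b) • m, (x * b - z * a) • m) = (w • a • m - y • b • m, x • b • m - z • a • m)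
    simp only [sub_smul, mul_smul]

theorem lid_row (t : (A × A) ⊗[A] M) :
    TensorProduct.lid A M ((row x y A).rTensor M t) = row x y M (e2 M t) := by
  induction t with
  | zero => simp only [map_zero]
  | add s t hs ht => simp only [map_add, hs, ht]
  | tmul p m =>
    obtain ⟨a, b⟩ := p
    rw [LinearMap.rTensor_tmul, e2_tmul]
    change TensorProduct.lid A M ((x * a + y * b) ⊗ₜ[A] m) = x • a • m + y • b • m
    rw [TensorProduct.lid_tmul]
    simp only [add_smul, mul_smul]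

/-- The hypothesis on `(A; x, y, z, w)`: the two periodic sequences are exact and
`(x, y)` has syzygies `psi`. -/
structure Per : Prop where
  phi_psi : Exact (phi x y z w A) (psi x y z w A)
  psi_phi : Exact (psi x y z w A) (phi x y z w A)
  psi_row : Exact (psi x y z w A) (row x y A)

variable {x y z w}

theorem exact_transport {X₁ X₂ X₃ Y₁ Y₂ Y₃ : Type u} [AddCommGroup X₁] [AddCommGroup X₂] [AddCommGroup X₃]
    [AddCommGroup Y₁] [AddCommGroup Y₂] [AddCommGroup Y₃] [Module A X₁] [Module A X₂] [Module A X₃]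
    [Module A Y₁] [Module A Y₂] [Module A Y₃] (f : X₁ →ₗ[A] X₂) (g : X₂ →ₗ[A] X₃)
    (f' : Y₁ →ₗ[A] Y₂) (g' : Y₂ →ₗ[A] Y₃) (e₁ : X₁ ≃ₗ[A] Y₁) (e₂ : X₂ ≃ₗ[A] Y₂) (e₃ : X₃ ≃ₗ[A] Y₃)
    (h₁ : ∀ t, e₂ (f t) = f' (e₁ t)) (h₂ : ∀ t, e₃ (g t) = g' (e₂ t)) : Exact f g ↔ Exact f' g' := by
  constructor
  · intro h y
    obtain ⟨y, rfl⟩ := e₂.surjective y
    rw [← h₂, e₃.map_eq_zero_iff, h y]
    constructor
    · rintro ⟨t, rfl⟩; exact ⟨e₁ t, (h₁ t).symm⟩
    · rintro ⟨t, ht⟩
      obtain ⟨t, rfl⟩ := e₁.surjective t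
      exact ⟨t, e₂.injective (by rw [h₁, ht])⟩
  · intro h y
    rw [← e₃.map_eq_zero_iff, h₂, h (e₂ y)]
    constructor
    · rintro ⟨t, ht⟩
      obtain ⟨t, rfl⟩ := e₁.surjective t
      exact ⟨t, e₂.injective (by rw [h₁, ht])⟩
    · rintro ⟨t, rfl⟩; exact ⟨e₁ t, (h₁ t).symm⟩

variable (x y z w) in
/-- The cokernel of `phi`. -/
abbrev Cphi : Type u := (A × A) ⧸ LinearMap.range (phi x y z w A)

variable (x y z w) in
/-- The cokernel of `psi`. -/
abbrev Cpsi : Type u := (A × A) ⧸ LinearMap.range (psi x y z w A)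

/-- `Tor_1(coker phi, M) = 0` iff `psi, phi` is exact on `M`. -/
theorem tor_one_Cphi (H : Per x y z w) :
    Subsingleton (DRing.Tor A 1 (Cphi x y z w) M) ↔ Exact (psi x y z w M) (phi x y z w M) := by
  rw [tor_one_iff_exact (psi x y z w A) (phi x y z w A) (Submodule.mkQ _) H.psi_phi
    (LinearMap.exact_map_mkQ_range _) (Submodule.mkQ_surjective _)]
  exact exact_transport _ _ _ _ (e2 M) (e2 M) (e2 M) (e2_psi x y z w M) (e2_phi x y z w M)

/-- `Tor_1(coker psi, M) = 0` iff `phi, psi` is exact on `M`. -/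
theorem tor_one_Cpsi (H : Per x y z w) :
    Subsingleton (DRing.Tor A 1 (Cpsi x y z w) M) ↔ Exact (phi x y z w M) (psi x y z w M) := by
  rw [tor_one_iff_exact (phi x y z w A) (psi x y z w A) (Submodule.mkQ _) H.phi_psi
    (LinearMap.exact_map_mkQ_range _) (Submodule.mkQ_surjective _)]
  exact exact_transport _ _ _ _ (e2 M) (e2 M) (e2 M) (e2_phi x y z w M) (e2_psi x y z w M)

/-- The injection `F₁ / im d₂ → F₀`. -/
theorem liftQ_injective {F₂ F₁ F₀ : Type u} [AddCommGroup F₂] [Module A F₂] [AddCommGroup F₁]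
    [Module A F₁] [AddCommGroup F₀] [Module A F₀]
    (d₂ : F₂ →ₗ[A] F₁) (d₁ : F₁ →ₗ[A] F₀) (h21 : Exact d₂ d₁) :
    Injective ((LinearMap.range d₂).liftQ d₁ (by
      rintro _ ⟨t, rfl⟩; exact h21.apply_apply_eq_zero t)) := by
  rw [← LinearMap.ker_eq_bot, Submodule.ker_liftQ, h21.linearMap_ker_eq, Submodule.mkQ_map_self]

theorem exact_liftQ {F₂ F₁ F₀ Q : Type u} [AddCommGroup F₂] [Module A F₂] [AddCommGroup F₁]
    [Module A F₁] [AddCommGroup F₀] [Module A F₀] [AddCommGroup Q] [Module A Q]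
    (d₂ : F₂ →ₗ[A] F₁) (d₁ : F₁ →ₗ[A] F₀) (h21 : Exact d₂ d₁) (q : F₀ →ₗ[A] Q) (h1q : Exact d₁ q) :
    Exact ((LinearMap.range d₂).liftQ d₁ (by
      rintro _ ⟨t, rfl⟩; exact h21.apply_apply_eq_zero t)) q := by
  intro y
  rw [h1q y]
  constructor
  · rintro ⟨t, rfl⟩; exact ⟨Submodule.Quotient.mk t, rfl⟩
  · rintro ⟨t, rfl⟩
    obtain ⟨t, rfl⟩ := Submodule.Quotient.mk_surjective _ t
    exact ⟨t, rfl⟩

theorem tor_shift_exact {F₂ F₁ F₀ Q : Type u} [AddCommGroup F₂] [Module A F₂] [AddCommGroup F₁]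
    [Module A F₁] [AddCommGroup F₀] [Module A F₀] [AddCommGroup Q] [Module A Q] [Module.Flat A F₀]
    (d₂ : F₂ →ₗ[A] F₁) (d₁ : F₁ →ₗ[A] F₀) (q : F₀ →ₗ[A] Q) (h21 : Exact d₂ d₁) (h1q : Exact d₁ q)
    (hq : Surjective q) (N : Type u) [AddCommGroup N] [Module A N] (p : ℕ) :
    Subsingleton (DRing.Tor A (p + 2) Q N) ↔
      Subsingleton (DRing.Tor A (p + 1) (F₁ ⧸ LinearMap.range d₂) N) :=
  tor_shift_iff _ q (liftQ_injective d₂ d₁ h21) (exact_liftQ d₂ d₁ h21 q h1q) hq N p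

theorem tor_shift_Cphi (H : Per x y z w) (p : ℕ) :
    Subsingleton (DRing.Tor A (p + 2) (Cphi x y z w) M) ↔
      Subsingleton (DRing.Tor A (p + 1) (Cpsi x y z w) M) :=
  tor_shift_exact _ _ (Submodule.mkQ _) H.psi_phi (LinearMap.exact_map_mkQ_range _)
    (Submodule.mkQ_surjective _) M p

theorem tor_shift_Cpsi (H : Per x y z w) (p : ℕ) :
    Subsingleton (DRing.Tor A (p + 2) (Cpsi x y z w) M) ↔
      Subsingleton (DRing.Tor A (p + 1) (Cphi x y z w) M) :=
  tor_shift_exact _ _ (Submodule.mkQ _) H.phi_psi (LinearMap.exact_map_mkQ_range _)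
    (Submodule.mkQ_surjective _) M p

/-- `row : A × A → A → A / (x, y)` is exact. -/
theorem row_exact : Exact (row x y A) (Submodule.mkQ (Ideal.span {x, y} : Ideal A)) := by
  intro t
  rw [Submodule.mkQ_apply, Submodule.Quotient.mk_eq_zero, Ideal.mem_span_pair]
  constructor
  · rintro ⟨a, b, rfl⟩
    exact ⟨(a, b), by change x * a + y * b = _; ring⟩
  · rintro ⟨⟨a, b⟩, rfl⟩
    exact ⟨a, b, by change _ = x * a + y * b; ring⟩

theorem tor_shift_P (H : Per x y z w) (p : ℕ) :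
    Subsingleton (DRing.Tor A (p + 2) (A ⧸ (Ideal.span {x, y} : Ideal A)) M) ↔
      Subsingleton (DRing.Tor A (p + 1) (Cpsi x y z w) M) :=
  tor_shift_exact _ _ (Submodule.mkQ _) H.psi_row row_exact (Submodule.mkQ_surjective _) M p

/-- Vanishing of all higher Tor's from the two first ones. -/
theorem tor_all (H : Per x y z w) (h1 : Exact (phi x y z w M) (psi x y z w M))
    (h2 : Exact (psi x y z w M) (phi x y z w M)) (p : ℕ) :
    Subsingleton (DRing.Tor A (p + 1) (Cphi x y z w) M) ∧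
      Subsingleton (DRing.Tor A (p + 1) (Cpsi x y z w) M) := by
  induction p with
  | zero => exact ⟨(tor_one_Cphi M H).2 h2, (tor_one_Cpsi M H).2 h1⟩
  | succ p ih => exact ⟨(tor_shift_Cphi M H p).2 ih.2, (tor_shift_Cpsi M H p).2 ih.1⟩

/-- Descending to `Tor_1`. -/
theorem tor_one_of_large (H : Per x y z w) (p : ℕ)
    (h1 : Subsingleton (DRing.Tor A (p + 1) (Cphi x y z w) M))
    (h2 : Subsingleton (DRing.Tor A (p + 1) (Cpsi x y z w) M)) :
    Exact (phi x y z w M) (psi x y z w M) ∧ Exact (psi x y z w M) (phi x y z w M) := by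
  induction p with
  | zero => exact ⟨(tor_one_Cpsi M H).1 h2, (tor_one_Cphi M H).1 h1⟩
  | succ p ih => exact ih ((tor_shift_Cpsi M H p).1 h2) ((tor_shift_Cphi M H p).1 h1)

end Mat

end Groth.Agent.K91.Dhm
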