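import Groth.Agent.LocAlg.K91.DhmRing
import Groth.Prelude.Def_IntMult

/-!
# The Euler characteristic `χ(M, A/(x,y))` and lengths
-/

universe u

open CategoryTheory TensorProduct Function

namespace Groth.Agent.K91.Dhm

open Groth.Agent.CycA.TorShift

section Abs

variable {A : Type u} [CommRing A]

/-- Natural number valued length. -/
noncomputable abbrev ln (A : Type u) [CommRing A] (V : Type u) [AddCommGroup V] [Module A V] : ℕ :=
  (Module.length A V).toNat

theorem ln_exact {K L N : Type u} [AddCommGroup K] [Module A K] [AddCommGroup L] [Module A L]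
    [AddCommGroup N] [Module A N] (hL : IsFiniteLength A L) (f : K →ₗ[A] L) (g : L →ₗ[A] N)
    (hf : Injective f) (hg : Surjective g) (h : Exact f g) : ln A L = ln A K + ln A N := by
  have e := Module.length_eq_add_of_exact f g hf hg h
  have ht : Module.length A L ≠ ⊤ := Module.length_ne_top_iff.2 hL
  have h1 : Module.length A K ≠ ⊤ := by
    intro h0; rw [h0] at e; exact ht (by rw [e]; simp)
  have h2 : Module.length A N ≠ ⊤ := by
    intro h0; rw [h0] at e; exact ht (by rw [e]; simp)
  unfold ln
  rw [e, ENat.toNat_add h1 h2]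

theorem ln_range_ker {L N : Type u} [AddCommGroup L] [Module A L] [AddCommGroup N] [Module A N]
    (hL : IsFiniteLength A L) (g : L →ₗ[A] N) :
    ln A L = ln A (LinearMap.ker g) + ln A (LinearMap.range g) :=
  ln_exact hL (LinearMap.ker g).subtype g.rangeRestrict Subtype.val_injective g.surjective_rangeRestrict (by
    intro v
    rw [← LinearMap.mem_ker, LinearMap.ker_rangeRestrict]
    exact ⟨fun hv => ⟨⟨v, hv⟩, rfl⟩, by rintro ⟨w, rfl⟩; exact w.2⟩)

theorem ln_range_coker {L N P : Type u} [AddCommGroup L] [Module A L] [AddCommGroup N] [Module A N]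
    [AddCommGroup P] [Module A P] (hN : IsFiniteLength A N) (g : L →ₗ[A] N) (q : N →ₗ[A] P) (h : Exact g q)
    (hq : Surjective q) : ln A N = ln A (LinearMap.range g) + ln A P :=
  ln_exact hN (LinearMap.range g).subtype q Subtype.val_injective hq (by
    intro v
    rw [h v]
    constructor
    · rintro ⟨w, rfl⟩; exact ⟨⟨_, w, rfl⟩, rfl⟩
    · rintro ⟨⟨_, w, rfl⟩, rfl⟩; exact ⟨w, rfl⟩)

theorem fl_of_equiv {L N : Type u} [AddCommGroup L] [Module A L] [AddCommGroup N] [Module A N]
    (e : L ≃ₗ[A] N) (h : IsFiniteLength A L) : IsFiniteLength A N := by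
  rw [← Module.length_ne_top_iff] at h ⊢
  rwa [← e.length_eq]

theorem fl_prod {L N : Type u} [AddCommGroup L] [Module A L] [AddCommGroup N] [Module A N]
    (h : IsFiniteLength A L) (h' : IsFiniteLength A N) : IsFiniteLength A (L × N) := by
  obtain ⟨_, _⟩ := isFiniteLength_iff_isNoetherian_isArtinian.1 h
  obtain ⟨_, _⟩ := isFiniteLength_iff_isNoetherian_isArtinian.1 h'
  exact isFiniteLength_iff_isNoetherian_isArtinian.2 ⟨inferInstance, inferInstance⟩

theorem fl_of_surj {L N : Type u} [AddCommGroup L] [Module A L] [AddCommGroup N] [Module A N]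
    (h : IsFiniteLength A L) (f : L →ₗ[A] N) (hf : Surjective f) : IsFiniteLength A N := by
  rw [← Module.length_ne_top_iff] at h ⊢
  exact ne_top_of_le_ne_top h (Module.length_le_of_surjective f hf)

theorem ln_prod {L N : Type u} [AddCommGroup L] [Module A L] [AddCommGroup N] [Module A N]
    (h : IsFiniteLength A L) (h' : IsFiniteLength A N) : ln A (L × N) = ln A L + ln A N := by
  rw [← Module.length_ne_top_iff] at h h'
  unfold ln
  rw [Module.length_prod, ENat.toNat_add h h']

/-- The finsum of an alternating sum with two terms. -/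
theorem finsum_two (f : ℕ → ℕ) (hf : ∀ i, 2 ≤ i → f i = 0) :
    ∑ᶠ i : ℕ, (-1 : ℤ) ^ i * (f i : ℤ) = (f 0 : ℤ) - f 1 := by
  rw [finsum_eq_finsetSum_of_support_subset (s := Finset.range 2)]
  · rw [Finset.sum_range_succ, Finset.sum_range_one]; ring
  · intro i hi
    rw [Function.mem_support] at hi
    rw [Finset.coe_range, Set.mem_Iio]
    by_contra hc
    exact hi (by rw [hf i (by omega)]; simp)

variable {x y z w : A} (M : Type u) [AddCommGroup M] [Module A M]

theorem chi_eq (H : Per x y z w) (hM : IsFiniteLength A M)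
    (h1 : Exact (phi x y z w M) (psi x y z w M)) (h2 : Exact (psi x y z w M) (phi x y z w M)) :
    IntMult.chi A M (A ⧸ (Ideal.span {x, y} : Ideal A)) =
      (ln A (LinearMap.range (psi x y z w M)) : ℤ) - ln A M := by
  have hvan : ∀ i, 2 ≤ i → ln A (DRing.Tor A i M (A ⧸ (Ideal.span {x, y} : Ideal A))) = 0 := by
    intro i hi
    obtain ⟨p, rfl⟩ : ∃ p, i = p + 2 := ⟨i - 2, by omega⟩
    have := Groth.Agent.K91.TorCrit.sub_comm ((tor_shift_P M H p).2 (tor_all M H h1 h2 p).2)
    unfold ln
    rw [Module.length_eq_zero]; rfl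
  unfold IntMult.chi
  rw [finsum_two (fun i => ln A (DRing.Tor A i M (A ⧸ (Ideal.span {x, y} : Ideal A)))) hvan]
  -- the presentation of P
  let i : Cpsi x y z w →ₗ[A] A := (LinearMap.range (psi x y z w A)).liftQ (row x y A) (by
      rintro _ ⟨t, rfl⟩; exact H.psi_row.apply_apply_eq_zero t)
  let q : A →ₗ[A] (A ⧸ (Ideal.span {x, y} : Ideal A)) := Submodule.mkQ _
  have hi : Injective i := liftQ_injective _ _ H.psi_row
  have hiq : Exact i q := exact_liftQ _ _ H.psi_row q row_exact
  have hq : Surjective q := Submodule.mkQ_surjective _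
  -- the modules
  have fM : IsFiniteLength A (A ⊗[A] M) := fl_of_equiv (TensorProduct.lid A M).symm hM
  have fM2 : IsFiniteLength A ((A × A) ⊗[A] M) := fl_of_equiv (e2 M).symm (fl_prod hM hM)
  have sC : Surjective ((Submodule.mkQ (LinearMap.range (psi x y z w A))).rTensor M) :=
    LinearMap.rTensor_surjective M (Submodule.mkQ_surjective _)
  have fC : IsFiniteLength A (Cpsi x y z w ⊗[A] M) := fl_of_surj fM2 _ sC
  -- Tor_0 and Tor_1
  have t0 : ln A (DRing.Tor A 0 M (A ⧸ (Ideal.span {x, y} : Ideal A))) =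
      ln A ((A ⧸ (Ideal.span {x, y} : Ideal A)) ⊗[A] M) := by
    unfold ln
    rw [((zeroEquiv A M (A ⧸ (Ideal.span {x, y} : Ideal A))).trans (TensorProduct.comm A _ _)).length_eq]
  have t1 : ln A (DRing.Tor A 1 M (A ⧸ (Ideal.span {x, y} : Ideal A))) =
      ln A (LinearMap.ker (i.rTensor M)) := by
    obtain ⟨e⟩ := comm (A := A) 1 M (A ⧸ (Ideal.span {x, y} : Ideal A))
    obtain ⟨e'⟩ := shiftL_one i q hi hiq hq M
    unfold ln
    rw [LinearEquiv.length_eq (N := LinearMap.ker (i.rTensor M)) (e.trans e')]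
  -- lengths
  have l1 := ln_range_ker fC (i.rTensor M)
  have l2 := ln_range_coker fM (i.rTensor M) (q.rTensor M) (rTensor_exact M hiq hq)
    (LinearMap.rTensor_surjective M hq)
  have l3 := ln_range_coker fM2 ((psi x y z w A).rTensor M)
    ((Submodule.mkQ (LinearMap.range (psi x y z w A))).rTensor M)
    (rTensor_exact M (LinearMap.exact_map_mkQ_range _) (Submodule.mkQ_surjective _)) sC
  have l4 : ln A (A ⊗[A] M) = ln A M := by unfold ln; rw [(TensorProduct.lid A M).length_eq]
  have l5 : ln A ((A × A) ⊗[A] M) = ln A M + ln A M := by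
    rw [← ln_prod hM hM]; unfold ln; rw [(e2 M).length_eq]
  have l6 : ln A (LinearMap.range ((psi x y z w A).rTensor M)) = ln A (LinearMap.range (psi x y z w M)) := by
    unfold ln
    have : LinearMap.range (psi x y z w M) = (LinearMap.range ((psi x y z w A).rTensor M)).map (e2 M).toLinearMap := by
      ext v
      constructor
      · rintro ⟨s, rfl⟩
        obtain ⟨t, ht⟩ := (e2 (A := A) M).surjective s
        exact ⟨_, ⟨t, rfl⟩, (e2_psi x y z w M t).trans (congrArg (psi x y z w M) ht)⟩
      · rintro ⟨_, ⟨t, rfl⟩, rfl⟩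
        exact ⟨e2 M t, (e2_psi x y z w M t).symm⟩
    rw [this]
    exact congrArg ENat.toNat (LinearEquiv.length_eq (R := A) (M := LinearMap.range ((psi x y z w A).rTensor M))
      (N := (LinearMap.range ((psi x y z w A).rTensor M)).map (e2 M).toLinearMap) ((e2 M).submoduleMap _))
  rw [t0, t1]
  rw [l4] at l2
  rw [l5, l6] at l3
  change ln A (Cpsi x y z w ⊗[A] M) = _ at l1
  change _ = _ + ln A (Cpsi x y z w ⊗[A] M) at l3
  omega

end Abs

section Field

variable (k : Type u) [Field k]

section AbsLen

variable {A : Type u} [CommRing A] [Algebra k A] (m : Ideal A)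

theorem length_killed (hs : ∀ a : A, ∃ c : k, a - algebraMap k A c ∈ m) (V : Type u) [AddCommGroup V] [Module A V]
    [Module k V] [IsScalarTower k A V] (h : ∀ a ∈ m, ∀ v : V, a • v = 0) :
    Module.length k V = Module.length A V := by
  have ht : Module.IsTorsionBySet A V m := fun v a => h a a.2 v
  let _ : Module (A ⧸ m) V := ht.module
  have : IsScalarTower A (A ⧸ m) V := ht.isScalarTower
  have : IsScalarTower k (A ⧸ m) V := by
    refine ⟨fun c t v => ?_⟩
    obtain ⟨t, rfl⟩ := Ideal.Quotient.mk_surjective t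
    change (Ideal.Quotient.mk m (c • t)) • v = _
    change (c • t) • v = c • t • v
    rw [smul_assoc]
  have hsurj : Surjective (algebraMap k (A ⧸ m)) := by
    intro t
    obtain ⟨t, rfl⟩ := Ideal.Quotient.mk_surjective t
    obtain ⟨c, hc⟩ := hs t
    refine ⟨c, ?_⟩
    rw [IsScalarTower.algebraMap_apply k A (A ⧸ m), Ideal.Quotient.algebraMap_eq, eq_comm, Ideal.Quotient.eq]
    exact hc
  rw [Module.length_eq_of_surjective (S := k) (R := A ⧸ m) hsurj,
    Module.length_eq_of_surjective (S := A) (R := A ⧸ m) Ideal.Quotient.mk_surjective]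

theorem length_eq (hs : ∀ a : A, ∃ c : k, a - algebraMap k A c ∈ m) (N : ℕ) :
    ∀ (V : Type u) [AddCommGroup V] [Module A V] [Module k V]
    [IsScalarTower k A V] (_ : m ^ N • (⊤ : Submodule A V) = ⊥),
    Module.length k V = Module.length A V := by
  induction N with
  | zero =>
    intro V _ _ _ _ h
    rw [Submodule.pow_zero, Ideal.one_eq_top, Submodule.top_smul] at h
    have : Subsingleton V := Submodule.subsingleton_iff A |>.1 (subsingleton_iff_bot_eq_top.1 h.symm)
    rw [Module.length_eq_zero, Module.length_eq_zero]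
  | succ N ih =>
    intro V _ _ _ _ h
    let W : Submodule A V := m • ⊤
    have hW : m ^ N • (⊤ : Submodule A W) = ⊥ := by
      apply Submodule.map_injective_of_injective W.injective_subtype
      rw [Submodule.map_smul'', Submodule.map_top, Submodule.range_subtype, Submodule.map_bot]
      change m ^ N • (m • (⊤ : Submodule A V)) = ⊥
      rw [← Submodule.mul_smul]
      exact h
    have hQ : ∀ a ∈ m, ∀ v : V ⧸ W, a • v = 0 := by
      intro a ha v
      obtain ⟨v, rfl⟩ := Submodule.Quotient.mk_surjective _ v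
      rw [← Submodule.Quotient.mk_smul, Submodule.Quotient.mk_eq_zero]
      exact Submodule.smul_mem_smul ha Submodule.mem_top
    rw [Module.length_eq_add_of_exact (W.subtype) W.mkQ Subtype.val_injective (Submodule.mkQ_surjective _)
      (LinearMap.exact_subtype_mkQ W)]
    rw [Module.length_eq_add_of_exact (W.subtype.restrictScalars k) (W.mkQ.restrictScalars k)
      Subtype.val_injective (Submodule.mkQ_surjective _) (LinearMap.exact_subtype_mkQ W), ih W hW,
      length_killed k m hs (V ⧸ W) hQ]

theorem finrank_eq (hs : ∀ a : A, ∃ c : k, a - algebraMap k A c ∈ m) (N : ℕ)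
    (V : Type u) [AddCommGroup V] [Module A V] [Module k V]
    [IsScalarTower k A V] (h : m ^ N • (⊤ : Submodule A V) = ⊥) (hV : IsFiniteLength A V) :
    Module.finrank k V = ln A V := by
  have h1 := length_eq k m hs N V h
  have h2 : Module.length k V ≠ ⊤ := by rw [h1]; exact Module.length_ne_top_iff.2 hV
  have h3 : IsFiniteLength k V := Module.length_ne_top_iff.1 h2
  obtain ⟨_, _⟩ := isFiniteLength_iff_isNoetherian_isArtinian.1 h3
  unfold ln
  rw [← h1, Module.length_eq_finrank, ENat.toNat_natCast]

end AbsLen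

theorem ev_algebraMap (c : k) : ev k (algebraMap k (Rg k) c) = c := by
  change ev k (Ideal.Quotient.mk (If k) (algebraMap k (Sp k) c)) = c
  rw [ev_mk, MvPolynomial.algebraMap_eq, MvPolynomial.constantCoeff_C]

theorem algebraMap_surj (a : Rg k) : ∃ c : k, a - algebraMap k (Rg k) c ∈ mm k := by
  refine ⟨ev k a, ?_⟩
  rw [← ker_ev, RingHom.mem_ker, map_sub, ev_algebraMap, sub_self]

end Field

end Groth.Agent.K91.Dhm
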