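import Groth.Agent.Models.TorVan
import Groth.Agent.Models.TorPoly
import Groth.Agent.CycA.TorShift

/-!
# Tor dimension of modules supported at one maximal ideal

* `hasTorDimLE_of_cyclic` : `Tor_{p+1}(M, A/I) = 0` for all ideals `I` and `p ≥ q` gives tor dimension `≤ q`.
* `tor_quot_zero` : `0 → A/(I:a) → A/I → A/(I + a) → 0` and Tor.
* `tor_cyclic_of_residue` : `A` noetherian, `M` killed by a power of the maximal ideal `m`, and
  `Tor_{p+1}(A/m, M) = 0` for `p ≥ q` then `Tor_{p+1}(A/I, M) = 0` for all `I`, `p ≥ q`.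
* `hasTorDimLE_of_residue`, `hasProjectiveDimensionLT_of_residue`.
-/

universe u

open CategoryTheory TensorProduct Function

namespace Groth.Agent.K91.TorCrit

open Groth.Agent.Models.TorVan Groth.Agent.CycA.TorShift Groth.Agent.CycA.TorBasic

variable {A : Type u} [CommRing A]

theorem sub_comm {n : ℕ} {M N : Type u} [AddCommGroup M] [Module A M] [AddCommGroup N] [Module A N]
    (h : Subsingleton (DRing.Tor A n M N)) : Subsingleton (DRing.Tor A n N M) := by
  obtain ⟨e⟩ := comm (A := A) n M N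
  exact e.symm.toEquiv.subsingleton

theorem flat_of_tor_one (M : Type u) [AddCommGroup M] [Module A M]
    (h : ∀ I : Ideal A, Subsingleton (DRing.Tor A 1 M (A ⧸ I))) : Module.Flat A M := by
  rw [Module.Flat.iff_rTensor_injective']
  intro I
  have hi : Injective (Submodule.subtype I) := Subtype.val_injective
  have hiq : Exact (Submodule.subtype I) (Submodule.mkQ I) := LinearMap.exact_subtype_mkQ I
  exact (tor_one_iff _ (Submodule.mkQ I) hi hiq (Submodule.mkQ_surjective _) M).1 (sub_comm (h I))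

theorem hasTorDimLE_of_cyclic (q : ℕ) : ∀ (M : Type u) [AddCommGroup M] [Module A M]
    (_ : ∀ I : Ideal A, ∀ p, q ≤ p → Subsingleton (DRing.Tor A (p + 1) M (A ⧸ I))),
    DRing.HasTorDimLE A q M := by
  induction q with
  | zero =>
    intro M _ _ h
    rw [hasTorDimLE_zero_iff]
    exact flat_of_tor_one M fun I => h I 0 le_rfl
  | succ q ih =>
    intro M _ _ h
    obtain ⟨F, _, _, _, f, hf⟩ := Groth.Agent.Models.TorVan.exists_free_cover (A := A) M
    have hi : Injective (LinearMap.ker f).subtype := Subtype.val_injective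
    have hiq : Exact (LinearMap.ker f).subtype f := LinearMap.exact_subtype_ker_map f
    refine (hasTorDimLE_succ_iff _ f hi hiq hf).2 (ih _ fun I p hp => ?_)
    exact (tor_shift_iff _ f hi hiq hf _ p).1 (h I (p + 1) (by omega))

section Quot

variable (I : Ideal A) (a : A)

/-- multiplication by `a`: `A/J → A/I`. -/
noncomputable def mulQ (J : Ideal A) (hJ : ∀ t ∈ J, a * t ∈ I) : (A ⧸ J) →ₗ[A] (A ⧸ I) :=
  Submodule.liftQ J ((Submodule.mkQ I) ∘ₗ (a • LinearMap.id)) (by
    intro t ht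
    rw [LinearMap.mem_ker, LinearMap.comp_apply, Submodule.mkQ_apply, Submodule.Quotient.mk_eq_zero]
    exact hJ t ht)

theorem mulQ_mk (J : Ideal A) (hJ : ∀ t ∈ J, a * t ∈ I) (t : A) :
    mulQ I a J hJ (Submodule.Quotient.mk t) = Submodule.Quotient.mk (a * t) := rfl

/-- The projection `A/I → A/(I + a)`. -/
noncomputable def projQ : (A ⧸ I) →ₗ[A] (A ⧸ (I ⊔ Ideal.span {a})) :=
  Submodule.liftQ I (Submodule.mkQ (I ⊔ Ideal.span {a})) (by
    rw [Submodule.ker_mkQ]; exact le_sup_left)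

theorem projQ_mk (t : A) : projQ I a (Submodule.Quotient.mk t) = Submodule.Quotient.mk t := rfl

theorem projQ_surjective : Surjective (projQ I a) := by
  intro t
  obtain ⟨t, rfl⟩ := Submodule.Quotient.mk_surjective _ t
  exact ⟨_, projQ_mk I a t⟩

theorem mulQ_injective (J : Ideal A) (hJ : ∀ t, t ∈ J ↔ a * t ∈ I) :
    Injective (mulQ I a J fun t ht => (hJ t).1 ht) := by
  rw [injective_iff_map_eq_zero]
  intro t ht
  obtain ⟨t, rfl⟩ := Submodule.Quotient.mk_surjective _ t
  rw [mulQ_mk, Submodule.Quotient.mk_eq_zero] at ht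
  rw [Submodule.Quotient.mk_eq_zero]
  exact (hJ t).2 ht

theorem mulQ_exact (J : Ideal A) (hJ : ∀ t ∈ J, a * t ∈ I) :
    Exact (mulQ I a J hJ) (projQ I a) := by
  intro t
  obtain ⟨t, rfl⟩ := Submodule.Quotient.mk_surjective _ t
  rw [projQ_mk, Submodule.Quotient.mk_eq_zero]
  constructor
  · intro ht
    obtain ⟨i, hi, j, hj, rfl⟩ := Submodule.mem_sup.1 ht
    obtain ⟨c, rfl⟩ := Ideal.mem_span_singleton'.1 hj
    refine ⟨Submodule.Quotient.mk c, ?_⟩
    rw [mulQ_mk, Submodule.Quotient.eq]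
    have : a * c - (i + c * a) = -i := by ring
    rw [this]
    exact I.neg_mem hi
  · rintro ⟨s, hs⟩
    obtain ⟨s, rfl⟩ := Submodule.Quotient.mk_surjective _ s
    rw [mulQ_mk, Submodule.Quotient.eq] at hs
    have : t = -(a * s - t) + s * a := by ring
    rw [this]
    exact Ideal.add_mem _ (Ideal.mem_sup_left (I.neg_mem hs))
      (Ideal.mem_sup_right (Ideal.mem_span_singleton'.2 ⟨s, rfl⟩))

variable (M : Type u) [AddCommGroup M] [Module A M]

/-- Vanishing in the middle. -/
theorem tor_mid (J : Ideal A) (hJ : ∀ t, t ∈ J ↔ a * t ∈ I) (p : ℕ)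
    (h1 : Subsingleton (DRing.Tor A p (A ⧸ J) M))
    (h2 : Subsingleton (DRing.Tor A p (A ⧸ (I ⊔ Ideal.span {a})) M)) :
    Subsingleton (DRing.Tor A p (A ⧸ I) M) := by
  obtain ⟨δ, e1, -, -⟩ := exists_les _ _ (mulQ_injective I a J hJ)
    (mulQ_exact I a J fun t ht => (hJ t).1 ht) (projQ_surjective I a) M
  refine subsingleton_of_forall_eq 0 fun t => ?_
  obtain ⟨s, rfl⟩ := (e1 p t).1 (Subsingleton.elim _ _)
  rw [Subsingleton.elim s 0, map_zero]

/-- Vanishing on the right. -/
theorem tor_right (J : Ideal A) (hJ : ∀ t, t ∈ J ↔ a * t ∈ I) (p : ℕ)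
    (h1 : Subsingleton (DRing.Tor A p (A ⧸ J) M))
    (h2 : Subsingleton (DRing.Tor A (p + 1) (A ⧸ I) M)) :
    Subsingleton (DRing.Tor A (p + 1) (A ⧸ (I ⊔ Ideal.span {a})) M) := by
  obtain ⟨δ, -, e2, -⟩ := exists_les _ _ (mulQ_injective I a J hJ)
    (mulQ_exact I a J fun t ht => (hJ t).1 ht) (projQ_surjective I a) M
  refine subsingleton_of_forall_eq 0 fun t => ?_
  obtain ⟨s, rfl⟩ := (e2 p t).1 (Subsingleton.elim _ _)
  rw [Subsingleton.elim s 0, map_zero]

theorem pow_smul_eq_zero_of_injective {T : Type u} [AddCommGroup T] [Module A T] (a : A)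
    (hinj : ∀ t : T, a • t = 0 → t = 0) (n : ℕ) (t : T) (h : a ^ n • t = 0) : t = 0 := by
  induction n with
  | zero => simpa using h
  | succ n ih => exact ih (hinj _ (by rw [smul_smul, ← pow_succ']; exact h))

/-- `a` regular modulo `I` and nilpotent on `M`. -/
theorem tor_left (ha : ∀ t, a * t ∈ I → t ∈ I) (n : ℕ) (hn : ∀ m : M, a ^ n • m = 0) (p : ℕ)
    (h2 : Subsingleton (DRing.Tor A (p + 1) (A ⧸ (I ⊔ Ideal.span {a})) M)) :
    Subsingleton (DRing.Tor A p (A ⧸ I) M) := by
  have hJ : ∀ t, t ∈ I ↔ a * t ∈ I := fun t => ⟨fun h => I.mul_mem_left a h, ha t⟩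
  obtain ⟨δ, -, -, e3⟩ := exists_les _ _ (mulQ_injective I a I hJ)
    (mulQ_exact I a I fun t ht => (hJ t).1 ht) (projQ_surjective I a) M
  have hmul : mulQ I a I (fun t ht => (hJ t).1 ht) = a • LinearMap.id := by
    ext; rfl
  refine subsingleton_of_forall_eq 0 fun t => ?_
  have hinj : ∀ s : DRing.Tor A p (A ⧸ I) M, a • s = 0 → s = 0 := by
    intro s hs
    have : mapL (mulQ I a I (fun t ht => (hJ t).1 ht)) p M s = 0 := by
      rw [hmul, mapL_smul_id]; exact hs
    obtain ⟨r, rfl⟩ := (e3 p s).1 this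
    rw [Subsingleton.elim r 0, map_zero]
  exact pow_smul_eq_zero_of_injective a hinj n t
    (smul_eq_zero_of_right (a ^ n) p (A ⧸ I) M hn t)

end Quot

theorem tor_cyclic_of_residue [IsNoetherianRing A] (m : Ideal A) [hm : m.IsMaximal]
    (M : Type u) [AddCommGroup M] [Module A M] (n : ℕ) (hn : ∀ a ∈ m, ∀ x : M, a ^ n • x = 0)
    (q : ℕ) (h : ∀ p, q ≤ p → Subsingleton (DRing.Tor A p (A ⧸ m) M)) (I : Ideal A) :
    ∀ p, q ≤ p → Subsingleton (DRing.Tor A p (A ⧸ I) M) := by
  refine IsNoetherian.induction (R := A) (M := A)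
    (P := fun I : Ideal A => ∀ p, q ≤ p → Subsingleton (DRing.Tor A p (A ⧸ I) M)) ?_ I
  clear I
  intro (I : Ideal A) ih p hp
  by_cases htop : I = ⊤
  · subst htop
    have : Subsingleton (A ⧸ (⊤ : Ideal A)) := Ideal.Quotient.subsingleton_iff.2 rfl
    refine subsingleton_of_forall_eq 0 fun t => ?_
    have := smul_eq_zero_of_left (1 : A) (A ⧸ (⊤ : Ideal A)) (fun m => Subsingleton.elim _ _) p M t
    rwa [one_smul] at this
  by_cases hprime : I.IsPrime
  · by_cases hmI : m ≤ I
    · rw [← hm.eq_of_le hprime.ne_top hmI]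
      exact h p hp
    · obtain ⟨a, ham, haI⟩ := SetLike.not_le_iff_exists.1 hmI
      refine tor_left I a M (fun t ht => (hprime.mem_or_mem ht).resolve_left haI) n (hn a ham) p ?_
      refine ih _ ?_ (p + 1) (by omega)
      refine lt_of_le_of_ne le_sup_left fun e => haI ?_
      rw [e]
      exact Ideal.mem_sup_right (Ideal.mem_span_singleton_self a)
  · obtain ⟨a, ha, b, hb, hab⟩ : ∃ a, a ∉ I ∧ ∃ b, b ∉ I ∧ a * b ∈ I := by
      by_contra hcon
      push Not at hcon
      refine hprime ⟨htop, fun {x y} hxy => ?_⟩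
      by_contra hc
      push Not at hc
      exact hcon x hc.1 y hc.2 hxy
    let J : Ideal A := (I.colon ({a} : Set A))
    have hJ : ∀ t, t ∈ J ↔ a * t ∈ I := fun t => by
      rw [Submodule.mem_colon_singleton, smul_eq_mul, mul_comm]
    refine tor_mid I a M J hJ p (ih J ?_ p hp) (ih _ ?_ p hp)
    · refine lt_of_le_of_ne (fun t ht => (hJ t).2 (I.mul_mem_left a ht)) fun e => hb ?_
      rw [e]; exact (hJ b).2 hab
    · refine lt_of_le_of_ne le_sup_left fun e => ha ?_
      rw [e]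
      exact Ideal.mem_sup_right (Ideal.mem_span_singleton_self a)

/-- `A` noetherian, `M` killed by powers of the elements of the maximal ideal `m` and
`Tor_p(A/m, M) = 0` for `p > q`: the tor dimension of `M` is `≤ q`. -/
theorem hasTorDimLE_of_residue [IsNoetherianRing A] (m : Ideal A) [hm : m.IsMaximal]
    (M : Type u) [AddCommGroup M] [Module A M] (n : ℕ) (hn : ∀ a ∈ m, ∀ x : M, a ^ n • x = 0)
    (q : ℕ) (h : ∀ p, q < p → Subsingleton (DRing.Tor A p (A ⧸ m) M)) :
    DRing.HasTorDimLE A q M :=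
  hasTorDimLE_of_cyclic q M fun I p hp =>
    sub_comm (tor_cyclic_of_residue m M n hn (q + 1) (fun p hp => h p (by omega)) I (p + 1) (by omega))

theorem hasProjectiveDimensionLT_of_residue [IsNoetherianRing A] (m : Ideal A) [hm : m.IsMaximal]
    (M : Type u) [AddCommGroup M] [Module A M] [Module.Finite A M] (n : ℕ)
    (hn : ∀ a ∈ m, ∀ x : M, a ^ n • x = 0)
    (q : ℕ) (h : ∀ p, q < p → Subsingleton (DRing.Tor A p (A ⧸ m) M)) :
    HasProjectiveDimensionLT (ModuleCat.of A M) (q + 1) :=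
  Groth.Agent.Models.TorPoly.hasProjectiveDimensionLT_of_hasTorDimLE q (hasTorDimLE_of_residue m M n hn q h)

end Groth.Agent.K91.TorCrit
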