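import Groth.Agent.LocAlg.K91.Dhm
import Groth.Agent.LocAlg.K91.TorCrit
import Groth.Agent.S14414
import Mathlib.RingTheory.MvPolynomial.Ideal
import Mathlib.RingTheory.Polynomial.Basic

/-!
# The hypersurface `x w = y z`
-/

universe u

open CategoryTheory TensorProduct Function

namespace Groth.Agent.K91.Dhm

section Abs

variable {S : Type u} [CommRing S] [IsDomain S] (X Y Z W : S)

local notation "ff" => X * W - Y * Z

/-- The two periodic sequences over `S / (X W - Y Z)`. -/
theorem per_quot (hf : X * W - Y * Z ≠ 0) (hXY : ∀ u v : S, X * u = Y * v → ∃ d, u = Y * d ∧ v = X * d) :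
    Per (Ideal.Quotient.mk (Ideal.span {X * W - Y * Z}) X) (Ideal.Quotient.mk (Ideal.span {X * W - Y * Z}) Y)
      (Ideal.Quotient.mk (Ideal.span {X * W - Y * Z}) Z) (Ideal.Quotient.mk (Ideal.span {X * W - Y * Z}) W) := by
  set I : Ideal S := Ideal.span {X * W - Y * Z} with hI
  have hmem : ∀ t : S, Ideal.Quotient.mk I t = 0 ↔ ∃ c, t = (X * W - Y * Z) * c := by
    intro t
    rw [Ideal.Quotient.eq_zero_iff_mem, hI, Ideal.mem_span_singleton]
    rfl
  have hz : Ideal.Quotient.mk I (X * W - Y * Z) = 0 := (hmem _).2 ⟨1, (mul_one _).symm⟩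
  have hrel : Ideal.Quotient.mk I X * Ideal.Quotient.mk I W = Ideal.Quotient.mk I Y * Ideal.Quotient.mk I Z := by
    rw [← map_mul, ← map_mul, ← sub_eq_zero, ← map_sub, hz]
  refine ⟨?_, ?_, ?_⟩
  · rintro ⟨a, b⟩
    obtain ⟨a, rfl⟩ := Ideal.Quotient.mk_surjective a
    obtain ⟨b, rfl⟩ := Ideal.Quotient.mk_surjective b
    constructor
    · intro h
      have h1 : Ideal.Quotient.mk I W * Ideal.Quotient.mk I a - Ideal.Quotient.mk I Y * Ideal.Quotient.mk I b = 0 :=
        congrArg Prod.fst h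
      have h2 : Ideal.Quotient.mk I X * Ideal.Quotient.mk I b - Ideal.Quotient.mk I Z * Ideal.Quotient.mk I a = 0 :=
        congrArg Prod.snd h
      rw [← map_mul, ← map_mul, ← map_sub, hmem] at h1 h2
      obtain ⟨c, hc⟩ := h1
      obtain ⟨d, hd⟩ := h2
      have ha : a = X * c + Y * d := mul_left_cancel₀ hf (by linear_combination X * hc + Y * hd)
      have hb : b = Z * c + W * d := mul_left_cancel₀ hf (by linear_combination Z * hc + W * hd)
      refine ⟨(Ideal.Quotient.mk I c, Ideal.Quotient.mk I d), ?_⟩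
      rw [ha, hb, map_add, map_add, map_mul, map_mul, map_mul, map_mul]
      rfl
    · rintro ⟨⟨c, d⟩, h⟩
      rw [← h]
      refine Prod.ext ?_ ?_
      · change Ideal.Quotient.mk I W * (Ideal.Quotient.mk I X * c + Ideal.Quotient.mk I Y * d) -
          Ideal.Quotient.mk I Y * (Ideal.Quotient.mk I Z * c + Ideal.Quotient.mk I W * d) = 0
        linear_combination c * hrel
      · change Ideal.Quotient.mk I X * (Ideal.Quotient.mk I Z * c + Ideal.Quotient.mk I W * d) -
          Ideal.Quotient.mk I Z * (Ideal.Quotient.mk I X * c + Ideal.Quotient.mk I Y * d) = 0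
        linear_combination d * hrel
  · rintro ⟨a, b⟩
    obtain ⟨a, rfl⟩ := Ideal.Quotient.mk_surjective a
    obtain ⟨b, rfl⟩ := Ideal.Quotient.mk_surjective b
    constructor
    · intro h
      have h1 : Ideal.Quotient.mk I X * Ideal.Quotient.mk I a + Ideal.Quotient.mk I Y * Ideal.Quotient.mk I b = 0 :=
        congrArg Prod.fst h
      have h2 : Ideal.Quotient.mk I Z * Ideal.Quotient.mk I a + Ideal.Quotient.mk I W * Ideal.Quotient.mk I b = 0 :=
        congrArg Prod.snd h
      rw [← map_mul, ← map_mul, ← map_add, hmem] at h1 h2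
      obtain ⟨c, hc⟩ := h1
      obtain ⟨d, hd⟩ := h2
      have ha : a = W * c - Y * d := mul_left_cancel₀ hf (by linear_combination W * hc - Y * hd)
      have hb : b = X * d - Z * c := mul_left_cancel₀ hf (by linear_combination X * hd - Z * hc)
      refine ⟨(Ideal.Quotient.mk I c, Ideal.Quotient.mk I d), ?_⟩
      rw [ha, hb, map_sub, map_sub, map_mul, map_mul, map_mul, map_mul]
      rfl
    · rintro ⟨⟨c, d⟩, h⟩
      rw [← h]
      refine Prod.ext ?_ ?_
      · change Ideal.Quotient.mk I X * (Ideal.Quotient.mk I W * c - Ideal.Quotient.mk I Y * d) +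
          Ideal.Quotient.mk I Y * (Ideal.Quotient.mk I X * d - Ideal.Quotient.mk I Z * c) = 0
        linear_combination c * hrel
      · change Ideal.Quotient.mk I Z * (Ideal.Quotient.mk I W * c - Ideal.Quotient.mk I Y * d) +
          Ideal.Quotient.mk I W * (Ideal.Quotient.mk I X * d - Ideal.Quotient.mk I Z * c) = 0
        linear_combination d * hrel
  · rintro ⟨a, b⟩
    obtain ⟨a, rfl⟩ := Ideal.Quotient.mk_surjective a
    obtain ⟨b, rfl⟩ := Ideal.Quotient.mk_surjective b
    constructor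
    · intro h
      have h1 : Ideal.Quotient.mk I X * Ideal.Quotient.mk I a + Ideal.Quotient.mk I Y * Ideal.Quotient.mk I b = 0 := h
      rw [← map_mul, ← map_mul, ← map_add, hmem] at h1
      obtain ⟨c, hc⟩ := h1
      obtain ⟨d, hd1, hd2⟩ := hXY (a - W * c) (-(b + Z * c)) (by linear_combination hc)
      refine ⟨(Ideal.Quotient.mk I c, Ideal.Quotient.mk I (-d)), ?_⟩
      have ha : a = W * c - Y * (-d) := by linear_combination hd1
      have hb : b = X * (-d) - Z * c := by linear_combination -hd2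
      rw [ha, hb, map_sub, map_sub, map_mul, map_mul, map_mul, map_mul]
      rfl
    · rintro ⟨⟨c, d⟩, h⟩
      rw [← h]
      change Ideal.Quotient.mk I X * (Ideal.Quotient.mk I W * c - Ideal.Quotient.mk I Y * d) +
          Ideal.Quotient.mk I Y * (Ideal.Quotient.mk I X * d - Ideal.Quotient.mk I Z * c) = 0
      linear_combination c * hrel

/-- Regularity modulo an ideal passes to a quotient by a smaller ideal. -/
theorem regular_map {S : Type u} [CommRing S] (I J : Ideal S) (hIJ : I ≤ J) (t : S)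
    (h : ∀ s, t * s ∈ J → s ∈ J) (s : S ⧸ I)
    (hs : Ideal.Quotient.mk I t * s ∈ J.map (Ideal.Quotient.mk I)) : s ∈ J.map (Ideal.Quotient.mk I) := by
  obtain ⟨s, rfl⟩ := Ideal.Quotient.mk_surjective s
  rw [← map_mul] at hs
  have key : ∀ r, Ideal.Quotient.mk I r ∈ J.map (Ideal.Quotient.mk I) ↔ r ∈ J := by
    intro r
    rw [Ideal.mem_quotient_iff_mem_sup, sup_eq_left.2 hIJ]
  rw [key] at hs ⊢
  exact h s hs

end Abs

section Poly

open MvPolynomial

variable (k : Type u) [Field k]

/-- The polynomial ring. -/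
abbrev Sp := MvPolynomial (Fin 4) k

/-- The defining ideal. -/
noncomputable abbrev If : Ideal (Sp k) := Ideal.span {(X 0 * X 3 - X 1 * X 2 : MvPolynomial (Fin 4) k)}

/-- The ring `k[X,Y,Z,W]/(XW - YZ)`. -/
abbrev Rg := Sp k ⧸ If k

theorem f_ne_zero : (X 0 * X 3 - X 1 * X 2 : MvPolynomial (Fin 4) k) ≠ 0 := by
  intro h
  have h1 := congrArg (MvPolynomial.eval (![1, 0, 0, 1] : Fin 4 → k)) h
  simp at h1

theorem syz_X (u v : Sp k) (h : X 0 * u = X 1 * v) : ∃ d, u = X 1 * d ∧ v = X 0 * d := by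
  have h1 : (X 1 : Sp k) ∣ X 0 * u := ⟨v, h⟩
  rcases MvPolynomial.X_dvd_mul_iff.1 h1 with h2 | ⟨d, rfl⟩
  · exfalso
    rw [MvPolynomial.X_dvd_X] at h2
    exact absurd h2 (by decide)
  · refine ⟨d, rfl, ?_⟩
    have h0 : (X 1 : Sp k) ≠ 0 := MvPolynomial.X_ne_zero _
    exact (mul_left_cancel₀ h0 (by linear_combination h)).symm

/-- The four generators of the maximal ideal. -/
noncomputable abbrev xx : Rg k := Ideal.Quotient.mk (If k) (X 0)
noncomputable abbrev yy : Rg k := Ideal.Quotient.mk (If k) (X 1)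
noncomputable abbrev zz : Rg k := Ideal.Quotient.mk (If k) (X 2)
noncomputable abbrev ww : Rg k := Ideal.Quotient.mk (If k) (X 3)

theorem per : Per (xx k) (yy k) (zz k) (ww k) :=
  per_quot (X 0) (X 1) (X 2) (X 3) (f_ne_zero k) (syz_X k)

theorem mul_mem_span_X {σ : Type} (s : Set σ) (i : σ) (hi : i ∉ s) (p : MvPolynomial σ k)
    (h : MvPolynomial.X i * p ∈ Ideal.span (MvPolynomial.X '' s : Set (MvPolynomial σ k))) :
    p ∈ Ideal.span (MvPolynomial.X '' s : Set (MvPolynomial σ k)) := by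
  classical
  rw [MvPolynomial.mem_ideal_span_X_image] at h ⊢
  intro m hm
  have hm' : m + Finsupp.single i 1 ∈ (MvPolynomial.X i * p).support := by
    rw [MvPolynomial.mem_support_iff] at hm ⊢
    rw [mul_comm, MvPolynomial.coeff_mul_X]
    exact hm
  obtain ⟨j, hj, hne⟩ := h _ hm'
  refine ⟨j, hj, ?_⟩
  have hij : i ≠ j := by rintro rfl; exact hi hj
  rw [Finsupp.add_apply, Finsupp.single_eq_of_ne hij.symm, add_zero] at hne
  exact hne

theorem If_le (s : Set (Fin 4)) (h0 : 0 ∈ s) (h1 : 1 ∈ s) :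
    If k ≤ Ideal.span (MvPolynomial.X '' s : Set (MvPolynomial (Fin 4) k)) := by
  rw [Ideal.span_singleton_le_iff_mem]
  exact Ideal.sub_mem _ (Ideal.mul_mem_right _ _ (Ideal.subset_span ⟨0, h0, rfl⟩))
    (Ideal.mul_mem_right _ _ (Ideal.subset_span ⟨1, h1, rfl⟩))

/-- The ideal `(x, y)`. -/
noncomputable abbrev Pxy : Ideal (Rg k) := Ideal.span {xx k, yy k}

/-- The maximal ideal. -/
noncomputable abbrev mm : Ideal (Rg k) := Ideal.span (Set.range fun j : Fin 4 => Ideal.Quotient.mk (If k) (X j))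

theorem map_span (s : Set (Fin 4)) :
    (Ideal.span (MvPolynomial.X '' s : Set (MvPolynomial (Fin 4) k))).map (Ideal.Quotient.mk (If k)) =
      Ideal.span ((fun j : Fin 4 => Ideal.Quotient.mk (If k) (X j)) '' s) := by
  rw [Ideal.map_span, Set.image_image]

theorem regular_of (s : Set (Fin 4)) (h0 : 0 ∈ s) (h1 : 1 ∈ s) (i : Fin 4) (hi : i ∉ s) (t : Rg k)
    (h : Ideal.Quotient.mk (If k) (X i) * t ∈ Ideal.span ((fun j : Fin 4 => Ideal.Quotient.mk (If k) (X j)) '' s)) :
    t ∈ Ideal.span ((fun j : Fin 4 => Ideal.Quotient.mk (If k) (X j)) '' s) := by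
  rw [← map_span] at h ⊢
  exact regular_map (If k) _ (If_le k s h0 h1) (X i) (mul_mem_span_X k s i hi) t h

theorem Pxy_eq : Pxy k = Ideal.span ((fun j : Fin 4 => Ideal.Quotient.mk (If k) (X j)) '' {0, 1}) := by
  rw [Set.image_pair]

theorem Pxyz_eq : Pxy k ⊔ Ideal.span {zz k} =
    Ideal.span ((fun j : Fin 4 => Ideal.Quotient.mk (If k) (X j)) '' {0, 1, 2}) := by
  rw [← Ideal.span_union, Set.image_insert_eq, Set.image_pair]
  congr 1
  ext t
  simp only [Set.mem_union, Set.mem_insert_iff, Set.mem_singleton_iff]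
  tauto

theorem mm_eq : Pxy k ⊔ Ideal.span {zz k} ⊔ Ideal.span {ww k} = mm k := by
  rw [Pxyz_eq, ← Ideal.span_union]
  congr 1
  ext t
  simp only [Set.mem_union, Set.mem_image, Set.mem_insert_iff, Set.mem_singleton_iff, Set.mem_range]
  constructor
  · rintro (⟨j, -, rfl⟩ | rfl)
    · exact ⟨j, rfl⟩
    · exact ⟨3, rfl⟩
  · rintro ⟨j, rfl⟩
    by_cases h : j = 3
    · subst h; exact Or.inr rfl
    · refine Or.inl ⟨j, ?_, rfl⟩
      fin_cases j <;> simp_all

/-- The evaluation at the origin. -/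
noncomputable def ev : Rg k →+* k := Ideal.Quotient.lift (If k) (MvPolynomial.constantCoeff) (by
  intro a ha
  obtain ⟨c, rfl⟩ := Ideal.mem_span_singleton'.1 ha
  simp)

theorem ev_mk (t : Sp k) : ev k (Ideal.Quotient.mk (If k) t) = MvPolynomial.constantCoeff t := rfl

theorem ker_ev : RingHom.ker (ev k) = mm k := by
  apply le_antisymm
  · intro t ht
    obtain ⟨t, rfl⟩ := Ideal.Quotient.mk_surjective t
    rw [RingHom.mem_ker, ev_mk] at ht
    have h1 : t ∈ Ideal.span (MvPolynomial.X '' (Set.univ : Set (Fin 4)) : Set (MvPolynomial (Fin 4) k)) := by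
      rw [MvPolynomial.mem_ideal_span_X_image]
      intro m hm
      by_contra hcon
      push Not at hcon
      have hm0 : m = 0 := by
        ext i; exact hcon i (Set.mem_univ i)
      rw [MvPolynomial.mem_support_iff, hm0] at hm
      exact hm ht
    have h2 := Ideal.mem_map_of_mem (Ideal.Quotient.mk (If k)) h1
    rw [map_span, Set.image_univ] at h2
    exact h2
  · rw [Ideal.span_le]
    rintro _ ⟨j, rfl⟩
    change ev k _ = 0
    rw [ev_mk, MvPolynomial.constantCoeff_X]

theorem ev_surjective : Surjective (ev k) := fun c =>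
  ⟨Ideal.Quotient.mk (If k) (MvPolynomial.C c), by rw [ev_mk, MvPolynomial.constantCoeff_C]⟩

instance isMaximal_mm : (mm k).IsMaximal := by
  rw [← ker_ev]
  exact RingHom.ker_isMaximal_of_surjective _ (ev_surjective k)

open Groth.Agent.K91.TorCrit

/-- If the periodic sequences are exact on `M`, then `Tor_p(k, M) = 0` for `p > 3`. -/
theorem tor_residue (M : Type u) [AddCommGroup M] [Module (Rg k) M]
    (h1 : Exact (phi (xx k) (yy k) (zz k) (ww k) M) (psi (xx k) (yy k) (zz k) (ww k) M))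
    (h2 : Exact (psi (xx k) (yy k) (zz k) (ww k) M) (phi (xx k) (yy k) (zz k) (ww k) M)) (p : ℕ) (hp : 3 < p) :
    Subsingleton (DRing.Tor (Rg k) p (Rg k ⧸ mm k) M) := by
  obtain ⟨p, rfl⟩ : ∃ q, p = q + 4 := ⟨p - 4, by omega⟩
  have hP : ∀ p, Subsingleton (DRing.Tor (Rg k) (p + 2) (Rg k ⧸ Pxy k) M) := fun p =>
    (tor_shift_P M (per k) p).2 (tor_all M (per k) h1 h2 p).2
  have hPz : ∀ p, Subsingleton (DRing.Tor (Rg k) (p + 3) (Rg k ⧸ (Pxy k ⊔ Ideal.span {zz k})) M) := fun p =>
    tor_right (Pxy k) (zz k) M (Pxy k) (fun t => ⟨fun h => Ideal.mul_mem_left _ _ h, fun h => by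
      rw [Pxy_eq] at h ⊢
      exact regular_of k {0, 1} (by simp) (by simp) 2 (by decide) t h⟩) (p + 2) (hP p) (hP (p + 1))
  have hPw : ∀ p, Subsingleton (DRing.Tor (Rg k) (p + 4)
      (Rg k ⧸ (Pxy k ⊔ Ideal.span {zz k} ⊔ Ideal.span {ww k})) M) := fun p =>
    tor_right (Pxy k ⊔ Ideal.span {zz k}) (ww k) M (Pxy k ⊔ Ideal.span {zz k})
      (fun t => ⟨fun h => Ideal.mul_mem_left _ _ h, fun h => by
      rw [Pxyz_eq] at h ⊢
      exact regular_of k {0, 1, 2} (by simp) (by simp) 3 (by decide) t h⟩) (p + 3) (hPz p) (hPz (p + 1))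
  have := hPw p
  rwa [mm_eq] at this

end Poly

/-- Finite length: exactness of one spot of a two-periodic complex is exactness of the other. -/
theorem exact_symm_of_finiteLength {A : Type u} [CommRing A] {V : Type u} [AddCommGroup V] [Module A V]
    (hV : IsFiniteLength A V) (f g : V →ₗ[A] V) (h : Exact f g) (h' : ∀ v, f (g v) = 0) : Exact g f := by
  have hVt : Module.length A V ≠ ⊤ := Module.length_ne_top_iff.2 hV
  obtain ⟨_, _⟩ := isFiniteLength_iff_isNoetherian_isArtinian.1 hV
  have e1 := Module.length_eq_add_of_exact (LinearMap.ker f).subtype f.rangeRestrict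
    Subtype.val_injective f.surjective_rangeRestrict (by
      intro v
      rw [← LinearMap.mem_ker, LinearMap.ker_rangeRestrict]
      exact ⟨fun hv => ⟨⟨v, hv⟩, rfl⟩, by rintro ⟨w, rfl⟩; exact w.2⟩)
  have e2 := Module.length_eq_add_of_exact (LinearMap.ker g).subtype g.rangeRestrict
    Subtype.val_injective g.surjective_rangeRestrict (by
      intro v
      rw [← LinearMap.mem_ker, LinearMap.ker_rangeRestrict]
      exact ⟨fun hv => ⟨⟨v, hv⟩, rfl⟩, by rintro ⟨w, rfl⟩; exact w.2⟩)
  rw [h.linearMap_ker_eq] at e2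
  have hle : LinearMap.range g ≤ LinearMap.ker f := by
    rintro _ ⟨v, rfl⟩; exact h' v
  have hlen : Module.length A (LinearMap.ker f) = Module.length A (LinearMap.range g) := by
    rw [e1, add_comm] at e2
    have ht : Module.length A (LinearMap.range f) ≠ ⊤ := by
      intro h0; rw [h0] at e1; exact hVt (by rw [e1]; simp)
    exact (ENat.add_right_injective_of_ne_top ht e2)
  have hsub : (LinearMap.range g).submoduleOf (LinearMap.ker f) = ⊤ := by
    by_contra hne
    have h1 := Submodule.length_lt hne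
    rw [(Submodule.submoduleOfEquivOfLe hle).length_eq, hlen] at h1
    exact lt_irrefl _ h1
  rw [Submodule.submoduleOf_eq_top] at hsub
  intro v
  rw [← LinearMap.mem_ker]
  exact ⟨fun hv => hsub hv, fun hv => hle hv⟩

theorem phi_psi_zero {A : Type u} [CommRing A] {x y z w : A} (hrel : x * w = y * z) (M : Type u) [AddCommGroup M]
    [Module A M] (v : M × M) : phi x y z w M (psi x y z w M v) = 0 := by
  obtain ⟨a, b⟩ := v
  refine Prod.ext ?_ ?_
  · change x • (w • a - y • b) + y • (x • b - z • a) = 0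
    simp only [smul_sub, smul_smul]
    rw [hrel, mul_comm y x]; abel
  · change z • (w • a - y • b) + w • (x • b - z • a) = 0
    simp only [smul_sub, smul_smul]
    rw [mul_comm w x, hrel, mul_comm w z, mul_comm y z]; abel

theorem rel (k : Type u) [Field k] : xx k * ww k = yy k * zz k := by
  rw [← sub_eq_zero]
  change Ideal.Quotient.mk (If k) (MvPolynomial.X 0 * MvPolynomial.X 3 - MvPolynomial.X 1 * MvPolynomial.X 2) = 0
  rw [Ideal.Quotient.eq_zero_iff_mem]
  exact Ideal.mem_span_singleton_self _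

theorem smul_pow_zero {A : Type u} [CommRing A] (m : Ideal A) (M : Type u) [AddCommGroup M] [Module A M] (N : ℕ)
    (hN : m ^ N • (⊤ : Submodule A M) = ⊥) (a : A) (ha : a ∈ m) (x : M) : a ^ N • x = 0 := by
  have : a ^ N • x ∈ m ^ N • (⊤ : Submodule A M) :=
    Submodule.smul_mem_smul (Ideal.pow_mem_pow ha N) Submodule.mem_top
  rwa [hN, Submodule.mem_bot] at this

/-- Higher `Tor` vanish for modules of finite projective dimension. -/
theorem tor_of_pd {A : Type u} [CommRing A] (M : Type u) [AddCommGroup M] [Module A M] (n : ℕ)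
    (h : HasProjectiveDimensionLT (ModuleCat.of A M) n) (P : Type u) [AddCommGroup P] [Module A P] (i : ℕ)
    (hi : n < i) : Subsingleton (DRing.Tor A i P M) := by
  have : HasProjectiveDimensionLE (ModuleCat.of A M) n :=
    @hasProjectiveDimensionLT_of_ge _ _ _ (ModuleCat.of A M) n (n + 1) (by omega) h
  exact ModuleCat.subsingleton_of_isZero
    (Groth.Agent.S14414.result A (ModuleCat.of A P) (ModuleCat.of A M) n i hi)

theorem exact_of_pd (k : Type u) [Field k] (M : Type u) [AddCommGroup M] [Module (Rg k) M] (n : ℕ)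
    (h : HasProjectiveDimensionLT (ModuleCat.of (Rg k) M) n) :
    Exact (phi (xx k) (yy k) (zz k) (ww k) M) (psi (xx k) (yy k) (zz k) (ww k) M) ∧
      Exact (psi (xx k) (yy k) (zz k) (ww k) M) (phi (xx k) (yy k) (zz k) (ww k) M) :=
  tor_one_of_large M (per k) n (tor_of_pd M n h _ _ (by omega)) (tor_of_pd M n h _ _ (by omega))

end Groth.Agent.K91.Dhm
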