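import Groth.Agent.LocAlg.K91.PsMon

/-!
# The higher double point `k[[x, y, t]] / (x ^ 2 - y ^ n)`: lengths
-/

universe u

open Function

namespace Groth.Agent.K91.HDP

open MvPowerSeries Groth.Agent.K91.PsMon

/-- The exponent `(a, b, c)`. -/
noncomputable def tr (a b c : ℕ) : Fin 3 →₀ ℕ := Finsupp.equivFunOnFinite.symm ![a, b, c]

theorem tr_le (a b c : ℕ) (m : Fin 3 →₀ ℕ) : tr a b c ≤ m ↔ a ≤ m 0 ∧ b ≤ m 1 ∧ c ≤ m 2 := by
  constructor
  · intro h
    exact ⟨h 0, h 1, h 2⟩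
  · rintro ⟨h0, h1, h2⟩ i
    fin_cases i
    · exact h0
    · exact h1
    · exact h2

theorem tr_eq (m : Fin 3 →₀ ℕ) : tr (m 0) (m 1) (m 2) = m := by
  ext i
  fin_cases i <;> rfl

theorem tr_injective : Injective (fun p : ℕ × ℕ × ℕ => tr p.1 p.2.1 p.2.2) := by
  rintro ⟨a, b, c⟩ ⟨a', b', c'⟩ h
  have h0 : a = a' := DFunLike.congr_fun h 0
  have h1 : b = b' := DFunLike.congr_fun h 1
  have h2 : c = c' := DFunLike.congr_fun h 2
  rw [h0, h1, h2]

/-- The complement of a monomial ideal, from a finite set of triples. -/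
noncomputable def bx (T : Finset (ℕ × ℕ × ℕ)) : Finset (Fin 3 →₀ ℕ) := by
  classical
  exact T.image fun p => tr p.1 p.2.1 p.2.2

theorem mem_bx (T : Finset (ℕ × ℕ × ℕ)) (m : Fin 3 →₀ ℕ) : m ∈ bx T ↔ (m 0, m 1, m 2) ∈ T := by
  classical
  unfold bx
  rw [Finset.mem_image]
  constructor
  · rintro ⟨⟨a, b, c⟩, h, rfl⟩
    exact h
  · intro h
    exact ⟨_, h, tr_eq m⟩

theorem card_bx (T : Finset (ℕ × ℕ × ℕ)) : (bx T).card = T.card := by
  classical
  exact Finset.card_image_of_injective _ tr_injective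

variable (k : Type u) [Field k]

theorem mono_eq (a b c : ℕ) :
    (X 0 ^ a * X 1 ^ b * X 2 ^ c : MvPowerSeries (Fin 3) k) = monomial (tr a b c) 1 := by
  rw [X_pow_eq, X_pow_eq, X_pow_eq, monomial_mul_monomial, monomial_mul_monomial, mul_one, mul_one]
  congr 1
  congr 1
  ext i
  fin_cases i <;> simp [tr]

/-- The generators of `J`. -/
noncomputable def GJ : Finset (Fin 3 →₀ ℕ) := by
  classical
  exact {tr 2 0 0, tr 1 1 0, tr 0 2 0, tr 1 0 1, tr 0 1 2, tr 0 0 4}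

/-- The generators of `K`. -/
noncomputable def GK : Finset (Fin 3 →₀ ℕ) := by
  classical
  exact {tr 2 0 0, tr 0 2 0, tr 0 0 4}

theorem mon_GJ : mon k (GJ : Set (Fin 3 →₀ ℕ)) =
    Ideal.span {(X 0 ^ 2 : MvPowerSeries (Fin 3) k), X 0 * X 1, X 1 ^ 2, X 0 * X 2, X 1 * X 2 ^ 2, X 2 ^ 4} := by
  classical
  unfold mon GJ
  have e1 := mono_eq k 2 0 0
  have e2 := mono_eq k 1 1 0
  have e3 := mono_eq k 0 2 0
  have e4 := mono_eq k 1 0 1
  have e5 := mono_eq k 0 1 2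
  have e6 := mono_eq k 0 0 4
  simp only [pow_zero, pow_one, mul_one, one_mul] at e1 e2 e3 e4 e5 e6
  rw [e1, e2, e3, e4, e5, e6]
  simp only [Finset.coe_insert, Finset.coe_singleton, Set.image_insert_eq, Set.image_singleton]

theorem mon_GK : mon k (GK : Set (Fin 3 →₀ ℕ)) =
    Ideal.span {(X 0 ^ 2 : MvPowerSeries (Fin 3) k), X 1 ^ 2, X 2 ^ 4} := by
  classical
  unfold mon GK
  have e1 := mono_eq k 2 0 0
  have e3 := mono_eq k 0 2 0
  have e6 := mono_eq k 0 0 4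
  simp only [pow_zero, mul_one, one_mul] at e1 e3 e6
  rw [e1, e3, e6]
  simp only [Finset.coe_insert, Finset.coe_singleton, Set.image_insert_eq, Set.image_singleton]

theorem length_J : Module.length (MvPowerSeries (Fin 3) k) (MvPowerSeries (Fin 3) k ⧸
    mon k (GJ : Set (Fin 3 →₀ ℕ))) = 7 := by
  classical
  rw [length_mon k GJ (bx ((Finset.range 2 ×ˢ Finset.range 2 ×ˢ Finset.range 4).filter
    fun p => ¬ (1 ≤ p.1 ∧ 1 ≤ p.2.1) ∧ ¬ (1 ≤ p.1 ∧ 1 ≤ p.2.2) ∧ ¬ (1 ≤ p.2.1 ∧ 2 ≤ p.2.2)))]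
  · rw [card_bx]; rfl
  · intro m
    rw [mem_bx]
    simp only [GJ, Finset.mem_insert, Finset.mem_singleton, forall_eq_or_imp, forall_eq, tr_le,
      Finset.mem_filter, Finset.mem_product, Finset.mem_range]
    omega

theorem length_K : Module.length (MvPowerSeries (Fin 3) k) (MvPowerSeries (Fin 3) k ⧸
    mon k (GK : Set (Fin 3 →₀ ℕ))) = 16 := by
  classical
  rw [length_mon k GK (bx (Finset.range 2 ×ˢ Finset.range 2 ×ˢ Finset.range 4))]
  · rw [card_bx]; rfl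
  · intro m
    rw [mem_bx]
    simp only [GK, Finset.mem_insert, Finset.mem_singleton, forall_eq_or_imp, forall_eq, tr_le,
      Finset.mem_product, Finset.mem_range]
    omega

/-- Lengths of quotients of quotients. -/
theorem length_quot {S : Type u} [CommRing S] (I J : Ideal S) (h : I ≤ J) :
    Module.length (S ⧸ I) ((S ⧸ I) ⧸ J.map (Ideal.Quotient.mk I)) = Module.length S (S ⧸ J) := by
  rw [← Module.length_eq_of_surjective (S := S) (R := S ⧸ I) (M := (S ⧸ I) ⧸ J.map (Ideal.Quotient.mk I))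
    Ideal.Quotient.mk_surjective]
  exact ((DoubleQuot.quotQuotEquivQuotOfLEₐ S h).toLinearEquiv).length_eq

end Groth.Agent.K91.HDP
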