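import Groth.Agent.LocAlg.K91.HDP

/-!
# The reduction `(y ^ 2, t ^ 4)` of the ideal `(x ^ 2, x y, y ^ 2, x t, y t ^ 2, t ^ 4)`
-/

universe u

open Function

namespace Groth.Agent.K91.HDP

section Red

variable {A : Type u} [CommRing A] (x y t : A)

/-- `(y², t⁴)` -/
abbrev QQ : Ideal A := Ideal.span {y ^ 2, t ^ 4}

/-- the remaining generators -/
abbrev I0 : Ideal A := Ideal.span {x ^ 2, x * y, x * t, y * t ^ 2}

theorem II_eq : Ideal.span {x ^ 2, x * y, y ^ 2, x * t, y * t ^ 2, t ^ 4} = QQ y t ⊔ I0 x y t := by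
  rw [← Ideal.span_union]
  congr 1
  ext s
  simp only [Set.mem_insert_iff, Set.mem_singleton_iff, Set.mem_union]
  tauto

theorem span_mul_le (G : Set A) (K : Ideal A) (h : ∀ a ∈ G, ∀ b ∈ G, a * b ∈ K) :
    Ideal.span G * Ideal.span G ≤ K := by
  rw [Ideal.span_mul_span', Ideal.span_le]
  rintro _ ⟨a, ha, b, hb, rfl⟩
  exact h a ha b hb

variable {x y t}

theorem sq_le (m : ℕ) (h : x ^ 2 = y ^ (m + 3)) :
    (QQ y t ⊔ I0 x y t) * (QQ y t ⊔ I0 x y t) ≤
      QQ y t * (QQ y t ⊔ I0 x y t) ⊔ Ideal.span {x * y * t ^ 3} := by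
  set Q := QQ y t with hQ
  set I := Q ⊔ I0 x y t with hI
  have hy : y ^ 2 ∈ Q := Ideal.subset_span (by simp)
  have ht : t ^ 4 ∈ Q := Ideal.subset_span (by simp)
  have hQI : Q ≤ I := le_sup_left
  have iy : y ^ 2 ∈ I := hQI hy
  have it : t ^ 4 ∈ I := hQI ht
  have ia : x ^ 2 ∈ I := (le_sup_right : I0 x y t ≤ I) (Ideal.subset_span (by simp))
  have ib : x * y ∈ I := (le_sup_right : I0 x y t ≤ I) (Ideal.subset_span (by simp))
  have id : x * t ∈ I := (le_sup_right : I0 x y t ≤ I) (Ideal.subset_span (by simp))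
  have ie : y * t ^ 2 ∈ I := (le_sup_right : I0 x y t ≤ I) (Ideal.subset_span (by simp))
  have key : ∀ q i r p : A, q ∈ Q → i ∈ I → p = q * (r * i) → p ∈ Q * I ⊔ Ideal.span {x * y * t ^ 3} := by
    intro q i r p hq hi e
    rw [e]
    exact Ideal.mem_sup_left (Ideal.mul_mem_mul hq (I.mul_mem_left r hi))
  have h0 : I0 x y t * I0 x y t ≤ Q * I ⊔ Ideal.span {x * y * t ^ 3} := by
    apply span_mul_le
    intro a ha b hb
    have aa : x ^ 2 * x ^ 2 ∈ Q * I ⊔ Ideal.span {x * y * t ^ 3} :=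
      key (y ^ 2) (x ^ 2) (y ^ (m + 1)) _ hy ia (by linear_combination x ^ 2 * h)
    have ab : x ^ 2 * (x * y) ∈ Q * I ⊔ Ideal.span {x * y * t ^ 3} :=
      key (y ^ 2) (x * y) (y ^ (m + 1)) _ hy ib (by linear_combination (x * y) * h)
    have ad : x ^ 2 * (x * t) ∈ Q * I ⊔ Ideal.span {x * y * t ^ 3} :=
      key (y ^ 2) (x * t) (y ^ (m + 1)) _ hy id (by linear_combination (x * t) * h)
    have ae : x ^ 2 * (y * t ^ 2) ∈ Q * I ⊔ Ideal.span {x * y * t ^ 3} :=
      key (y ^ 2) (y * t ^ 2) (y ^ (m + 1)) _ hy ie (by linear_combination (y * t ^ 2) * h)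
    have bb : (x * y) * (x * y) ∈ Q * I ⊔ Ideal.span {x * y * t ^ 3} :=
      key (y ^ 2) (x ^ 2) 1 _ hy ia (by ring)
    have bd : (x * y) * (x * t) ∈ Q * I ⊔ Ideal.span {x * y * t ^ 3} :=
      key (y ^ 2) (y ^ 2) (y ^ m * t) _ hy iy (by linear_combination (y * t) * h)
    have be : (x * y) * (y * t ^ 2) ∈ Q * I ⊔ Ideal.span {x * y * t ^ 3} :=
      key (y ^ 2) (x * t) t _ hy id (by ring)
    have dd : (x * t) * (x * t) ∈ Q * I ⊔ Ideal.span {x * y * t ^ 3} :=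
      key (y ^ 2) (y * t ^ 2) (y ^ m) _ hy ie (by linear_combination (t ^ 2) * h)
    have ee : (y * t ^ 2) * (y * t ^ 2) ∈ Q * I ⊔ Ideal.span {x * y * t ^ 3} :=
      key (y ^ 2) (t ^ 4) 1 _ hy it (by ring)
    have de : (x * t) * (y * t ^ 2) ∈ Q * I ⊔ Ideal.span {x * y * t ^ 3} := by
      refine Ideal.mem_sup_right (Ideal.mem_span_singleton'.2 ⟨1, by ring⟩)
    simp only [Set.mem_insert_iff, Set.mem_singleton_iff] at ha hb
    rcases ha with rfl | rfl | rfl | rfl <;> rcases hb with rfl | rfl | rfl | rfl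
    · exact aa
    · exact ab
    · exact ad
    · exact ae
    · rw [show x * y * x ^ 2 = x ^ 2 * (x * y) by ring]; exact ab
    · exact bb
    · exact bd
    · exact be
    · rw [mul_comm (x * t)]; exact ad
    · rw [mul_comm (x * t)]; exact bd
    · exact dd
    · exact de
    · rw [mul_comm (y * t ^ 2)]; exact ae
    · rw [mul_comm (y * t ^ 2)]; exact be
    · rw [mul_comm (y * t ^ 2)]; exact de
    · exact ee
  have h1 : I * I = Q * I ⊔ (I0 x y t * Q ⊔ I0 x y t * I0 x y t) := by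
    rw [hI, ← Ideal.mul_sup, ← hI, ← Ideal.sup_mul]
  rw [h1]
  refine sup_le le_sup_left (sup_le ?_ h0)
  rw [mul_comm]
  exact (Ideal.mul_mono_right le_sup_right).trans le_sup_left

theorem cube_le (m : ℕ) (h : x ^ 2 = y ^ (m + 3)) :
    (QQ y t ⊔ I0 x y t) ^ 3 ≤ QQ y t * (QQ y t ⊔ I0 x y t) ^ 2 := by
  set Q := QQ y t with hQ
  set I := Q ⊔ I0 x y t with hI
  have hy : y ^ 2 ∈ Q := Ideal.subset_span (by simp)
  have ht : t ^ 4 ∈ Q := Ideal.subset_span (by simp)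
  have hQI : Q ≤ I := le_sup_left
  have iy : y ^ 2 ∈ I := hQI hy
  have it : t ^ 4 ∈ I := hQI ht
  have ia : x ^ 2 ∈ I := (le_sup_right : I0 x y t ≤ I) (Ideal.subset_span (by simp))
  have ib : x * y ∈ I := (le_sup_right : I0 x y t ≤ I) (Ideal.subset_span (by simp))
  have id : x * t ∈ I := (le_sup_right : I0 x y t ≤ I) (Ideal.subset_span (by simp))
  have ie : y * t ^ 2 ∈ I := (le_sup_right : I0 x y t ≤ I) (Ideal.subset_span (by simp))
  have key : ∀ q i j r p : A, q ∈ Q → i ∈ I → j ∈ I → p = q * (r * (i * j)) → p ∈ Q * I ^ 2 := by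
    intro q i j r p hq hi hj e
    rw [e, pow_two]
    exact Ideal.mul_mem_mul hq ((I * I).mul_mem_left r (Ideal.mul_mem_mul hi hj))
  have h1 : I ^ 3 ≤ (Q * I ⊔ Ideal.span {x * y * t ^ 3}) * I := by
    rw [pow_succ, pow_two]
    exact Ideal.mul_mono_left (sq_le m h)
  refine h1.trans ?_
  rw [Ideal.sup_mul]
  refine sup_le (by rw [mul_assoc, pow_two]) ?_
  have h2 : Ideal.span {x * y * t ^ 3} * I = Ideal.span {x * y * t ^ 3} * Q ⊔
      Ideal.span {x * y * t ^ 3} * I0 x y t := by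
    rw [hI, Ideal.mul_sup]
  rw [h2]
  refine sup_le ?_ ?_
  · rw [mul_comm]
    refine Ideal.mul_mono_right ?_
    rw [Ideal.span_singleton_le_iff_mem, pow_two]
    have : x * y * t ^ 3 = (x * t) * (y * t ^ 2) := by ring
    rw [this]
    exact Ideal.mul_mem_mul id ie
  · rw [Ideal.span_mul_span', Ideal.span_le]
    rintro _ ⟨a, ha, b, hb, rfl⟩
    rw [Set.mem_singleton_iff] at ha
    subst ha
    simp only [Set.mem_insert_iff, Set.mem_singleton_iff] at hb
    change _ ∈ Q * I ^ 2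
    rcases hb with rfl | rfl | rfl | rfl
    · exact key (y ^ 2) (y ^ 2) (x * t) (y ^ m * t ^ 2) _ hy iy id (by
        change x * y * t ^ 3 * x ^ 2 = _
        linear_combination (x * y * t ^ 3) * h)
    · exact key (y ^ 2) (x * t) (x * t) t _ hy id id (by
        change x * y * t ^ 3 * (x * y) = _
        ring)
    · exact key (t ^ 4) (y ^ 2) (y ^ 2) (y ^ m) _ ht iy iy (by
        change x * y * t ^ 3 * (x * t) = _
        linear_combination (y * t ^ 4) * h)
    · exact key (y ^ 2) (x * t) (t ^ 4) 1 _ hy id it (by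
        change x * y * t ^ 3 * (y * t ^ 2) = _
        ring)

theorem pow_le_mul (Q I : Ideal A) (h : I ^ 3 ≤ Q * I ^ 2) (m : ℕ) : I ^ (m + 2) ≤ Q ^ m * I ^ 2 := by
  induction m with
  | zero => rw [zero_add, pow_zero, one_mul]
  | succ m ih =>
    calc I ^ (m + 1 + 2) = I ^ (m + 2) * I := by rw [← pow_succ]
      _ ≤ (Q ^ m * I ^ 2) * I := Ideal.mul_mono_left ih
      _ = Q ^ m * I ^ 3 := by rw [mul_assoc, ← pow_succ]
      _ ≤ Q ^ m * (Q * I ^ 2) := Ideal.mul_mono_right h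
      _ = Q ^ (m + 1) * I ^ 2 := by rw [← mul_assoc, ← pow_succ]

theorem pow_le_pow (Q I : Ideal A) (h : I ^ 3 ≤ Q * I ^ 2) (m : ℕ) : I ^ (m + 2) ≤ Q ^ m :=
  (pow_le_mul Q I h m).trans Ideal.mul_le_left

end Red

end Groth.Agent.K91.HDP
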