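import Groth.Agent.LocAlg.K91.DhmChi
import Groth.Agent.LocAlg.K538.Samuel
import Mathlib.RingTheory.MvPowerSeries.Basic
import Mathlib.RingTheory.MvPowerSeries.NoZeroDivisors
import Mathlib.RingTheory.MvPowerSeries.Inverse
import Mathlib.RingTheory.MvPowerSeries.Equiv

/-!
# Monomial ideals of power series rings
-/

universe u

open Function

namespace Groth.Agent.K91.PsMon

open MvPowerSeries

section Mem

variable {σ : Type} {k : Type u} [CommRing k]

/-- The ideal generated by the monomials with exponents in `G`. -/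
noncomputable def mon (k : Type u) [CommRing k] (G : Set (σ →₀ ℕ)) : Ideal (MvPowerSeries σ k) :=
  Ideal.span ((fun g => MvPowerSeries.monomial g (1 : k)) '' G)

theorem exists_of_mem (G : Set (σ →₀ ℕ)) (t : MvPowerSeries σ k) (ht : t ∈ mon k G) (m : σ →₀ ℕ)
    (hm : coeff m t ≠ 0) : ∃ g ∈ G, g ≤ m := by
  classical
  induction ht using Submodule.span_induction generalizing m with
  | mem x hx =>
    obtain ⟨g, hg, rfl⟩ := hx
    refine ⟨g, hg, ?_⟩
    change coeff m (MvPowerSeries.monomial g (1 : k)) ≠ 0 at hm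
    rw [coeff_monomial] at hm
    by_cases h : m = g
    · rw [h]
    · rw [if_neg h] at hm; exact absurd rfl hm
  | zero => exact absurd (map_zero _) hm
  | add x y _ _ hx hy =>
    rw [map_add] at hm
    by_cases h : coeff m x = 0
    · rw [h, zero_add] at hm; exact hy m hm
    · exact hx m h
  | smul a x _ hx =>
    rw [smul_eq_mul, coeff_mul] at hm
    obtain ⟨p, hp, hne⟩ := Finset.exists_ne_zero_of_sum_ne_zero hm
    obtain ⟨g, hg, hle⟩ := hx p.2 (fun h => hne (by rw [h, mul_zero]))
    rw [Finset.mem_antidiagonal] at hp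
    exact ⟨g, hg, hle.trans (by rw [← hp]; exact le_add_self)⟩

theorem mem_of_exists (G : Finset (σ →₀ ℕ)) : ∀ (t : MvPowerSeries σ k)
    (_ : ∀ m, coeff m t ≠ 0 → ∃ g ∈ G, g ≤ m), t ∈ mon k (G : Set (σ →₀ ℕ)) := by
  classical
  induction G using Finset.induction with
  | empty =>
    intro t ht
    have : t = 0 := by
      ext m
      by_contra h
      obtain ⟨g, hg, -⟩ := ht m h
      simp at hg
    rw [this]; exact Ideal.zero_mem _
  | insert g G hg ih =>
    intro t ht
    let s : MvPowerSeries σ k := fun n => coeff (g + n) t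
    have hs : ∀ m, coeff m (monomial g (1 : k) * s) = if g ≤ m then coeff m t else 0 := by
      intro m
      rw [coeff_monomial_mul]
      split_ifs with h
      · rw [one_mul]
        change coeff (g + (m - g)) t = _
        rw [add_tsub_cancel_of_le h]
      · rfl
    have hmono : mon k (G : Set (σ →₀ ℕ)) ≤ mon k ((insert g G : Finset (σ →₀ ℕ)) : Set (σ →₀ ℕ)) :=
      Ideal.span_mono (Set.image_mono (by simp))
    have h1 : t - monomial g (1 : k) * s ∈ mon k (G : Set (σ →₀ ℕ)) := by
      apply ih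
      intro m hm
      rw [map_sub, hs] at hm
      by_cases h : g ≤ m
      · rw [if_pos h, sub_self] at hm; exact absurd rfl hm
      · rw [if_neg h, sub_zero] at hm
        obtain ⟨g', hg', hle⟩ := ht m hm
        rcases Finset.mem_insert.1 hg' with rfl | hg'
        · exact absurd hle h
        · exact ⟨g', hg', hle⟩
    have h2 : monomial g (1 : k) * s ∈ mon k ((insert g G : Finset (σ →₀ ℕ)) : Set (σ →₀ ℕ)) :=
      Ideal.mul_mem_right _ _ (Ideal.subset_span ⟨g, by simp, rfl⟩)
    have := Ideal.add_mem _ (hmono h1) h2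
    rwa [sub_add_cancel] at this

theorem mem_iff (G : Finset (σ →₀ ℕ)) (t : MvPowerSeries σ k) :
    t ∈ mon k (G : Set (σ →₀ ℕ)) ↔ ∀ m, coeff m t ≠ 0 → ∃ g ∈ G, g ≤ m :=
  ⟨fun h m hm => exists_of_mem _ t h m hm, mem_of_exists G t⟩

end Mem

section Len

variable {σ : Type} (k : Type u) [Field k]

/-- Coefficients outside the monomial ideal. -/
noncomputable def cf (B : Finset (σ →₀ ℕ)) : MvPowerSeries σ k →ₗ[k] (B → k) :=
  LinearMap.pi fun b => coeff b.1

theorem cf_surjective (B : Finset (σ →₀ ℕ)) : Surjective (cf k B) := by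
  classical
  intro v
  refine ⟨fun m => if h : m ∈ B then v ⟨m, h⟩ else 0, ?_⟩
  ext b
  change (if h : b.1 ∈ B then v ⟨b.1, h⟩ else 0) = _
  rw [dif_pos b.2]

theorem ker_cf (G B : Finset (σ →₀ ℕ)) (h : ∀ m, m ∈ B ↔ ∀ g ∈ G, ¬ g ≤ m) :
    LinearMap.ker (cf k B) = (mon k (G : Set (σ →₀ ℕ))).restrictScalars k := by
  ext t
  rw [LinearMap.mem_ker, Submodule.restrictScalars_mem, mem_iff]
  constructor
  · intro ht m hm
    by_contra hc
    push Not at hc
    exact hm (congrFun ht ⟨m, (h m).2 hc⟩)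
  · intro ht
    ext b
    change coeff b.1 t = 0
    by_contra hc
    obtain ⟨g, hg, hle⟩ := ht _ hc
    exact (h _).1 b.2 g hg hle

theorem finrank_mon (G B : Finset (σ →₀ ℕ)) (h : ∀ m, m ∈ B ↔ ∀ g ∈ G, ¬ g ≤ m) :
    Module.Finite k (MvPowerSeries σ k ⧸ mon k (G : Set (σ →₀ ℕ))) ∧
    Module.finrank k (MvPowerSeries σ k ⧸ mon k (G : Set (σ →₀ ℕ))) = B.card := by
  let e1 : (MvPowerSeries σ k ⧸ (mon k (G : Set (σ →₀ ℕ))).restrictScalars k) ≃ₗ[k] (B → k) :=
    (Submodule.quotEquivOfEq _ _ (ker_cf k G B h).symm).trans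
      ((cf k B).quotKerEquivOfSurjective (cf_surjective k B))
  let e2 : (MvPowerSeries σ k ⧸ mon k (G : Set (σ →₀ ℕ))) ≃ₗ[k] (B → k) :=
    (Submodule.Quotient.restrictScalarsEquiv k (mon k (G : Set (σ →₀ ℕ)))).symm.trans e1
  refine ⟨Module.Finite.equiv e2.symm, ?_⟩
  rw [e2.finrank_eq, Module.finrank_fintype_fun_eq_card, Fintype.card_coe]

/-- Over a local `k`-algebra with residue field `k`, the length of a module finite over `k` is its dimension. -/
theorem length_eq_finrank {A : Type u} [CommRing A] [IsLocalRing A] [Algebra k A]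
    (hs : ∀ a : A, ∃ c : k, a - algebraMap k A c ∈ IsLocalRing.maximalIdeal A)
    (V : Type u) [AddCommGroup V] [Module A V] [Module k V] [IsScalarTower k A V] [Module.Finite k V] :
    Module.length A V = Module.finrank k V := by
  have h1 : IsNoetherian A V := isNoetherian_of_tower k inferInstance
  have h2 : IsArtinian A V := isArtinian_of_tower k inferInstance
  have hfl : IsFiniteLength A V := isFiniteLength_iff_isNoetherian_isArtinian.2 ⟨h1, h2⟩
  obtain ⟨n, hn⟩ := K538.Samuel.exists_pow_smul_eq_zero hfl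
  have h3 : IsLocalRing.maximalIdeal A ^ n • (⊤ : Submodule A V) = ⊥ := by
    rw [eq_bot_iff, Submodule.smul_le]
    intro a ha v _
    rw [Submodule.mem_bot]
    exact hn a ha v
  rw [← Groth.Agent.K91.Dhm.length_eq k _ hs n V h3, Module.length_eq_finrank]

theorem sub_C_mem {σ : Type} (t : MvPowerSeries σ k) :
    ∃ c : k, t - algebraMap k (MvPowerSeries σ k) c ∈ IsLocalRing.maximalIdeal (MvPowerSeries σ k) := by
  refine ⟨constantCoeff t, ?_⟩
  rw [IsLocalRing.mem_maximalIdeal, mem_nonunits_iff, MvPowerSeries.isUnit_iff_constantCoeff]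
  rw [map_sub]
  change ¬ IsUnit (constantCoeff t - constantCoeff (algebraMap k (MvPowerSeries σ k) (constantCoeff t)))
  rw [MvPowerSeries.algebraMap_apply]
  simp

theorem length_mon (G B : Finset (σ →₀ ℕ)) (h : ∀ m, m ∈ B ↔ ∀ g ∈ G, ¬ g ≤ m) :
    Module.length (MvPowerSeries σ k) (MvPowerSeries σ k ⧸ mon k (G : Set (σ →₀ ℕ))) = B.card := by
  obtain ⟨_, h2⟩ := finrank_mon k G B h
  rw [length_eq_finrank k (sub_C_mem k), h2]

end Len

end Groth.Agent.K91.PsMon
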